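import Mathlib
import Cfsg.Agent.Lib.Helper82.StUniq.Defs
import Cfsg.Agent.Lib.Helper23.SLDZMack
import Cfsg.Agent.Lib.Helper78.CharMore
import Cfsg.Agent.Lib.Helper75.Clifford
import Cfsg.Agent.Lib.Helper3.Induction
import Cfsg.Agent.S0148

/-!
# S2318, module [A-DAGGER] (helper24): `θ = 1` on `T ∩ ⟨X, n X n⁻¹⟩` for one root datum

`theta_eq_one_on_root_of`: the assembly, with the conclusions of the modules [A-STAGE2], [A-PICK],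
[A-ORTH], [A-RANK1LIN] as explicit hypotheses (exactly in the form of the sheet
`Lib/Helper82/StUniq/S2318_MODULES.md`, specialised to the root datum).
-/

set_option autoImplicit false

namespace Cfsg.Agent.Lib.Helper24.StUniq

open Cfsg
open scoped ComplexConjugate
open Cfsg.Agent.Lib.Helper79.BrauerN (linFun)
open Cfsg.Agent.Lib.Helper82.SLDZ (Compat)
open Cfsg.Agent.Lib.Helper82.StUniq

universe u
variable {G : Type u} [Group G]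

section basics

variable (S : BorelData G) {Ψ : Set (↥S.U →* ℂˣ)} (R : RootDatum S Ψ)

/-- `n` as an element of `P` -/
def nP : ↥R.P := ⟨R.n, R.hnP⟩

/-- `θ̃` as a linear character of `B ∩ P = B` inside the group `↥P` -/
noncomputable def alphaP (θ : ↥S.T →* ℂˣ) : ↥(S.B.subgroupOf R.P) →* ℂˣ :=
  (S.tilde θ).comp (Subgroup.subgroupOfEquivOfLe R.hBP).toMonoidHom

theorem alphaP_apply (θ : ↥S.T →* ℂˣ) (x : ↥(S.B.subgroupOf R.P)) :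
    alphaP S R θ x = S.tilde θ ⟨((x : ↥R.P) : G), Subgroup.mem_subgroupOf.mp x.2⟩ := rfl

theorem linFun_alphaP (θ : ↥S.T →* ℂˣ) :
    linFun (alphaP S R θ) =
      fun x : ↥(S.B.subgroupOf R.P) =>
        linFun (S.tilde θ) ⟨((x : ↥R.P) : G), Subgroup.mem_subgroupOf.mp x.2⟩ := rfl

open Classical in
/-- `Ind_B^G θ̃ = Ind_P^G Ind_B^P θ̃` -/
theorem indFun_alphaP [Fintype G] (θ : ↥S.T →* ℂˣ) :
    indFun R.P (indFun (S.B.subgroupOf R.P) (linFun (alphaP S R θ))) =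
      indFun S.B (linFun (S.tilde θ)) := by
  rw [linFun_alphaP]
  exact Cfsg.Agent.Lib.Helper3.indFun_trans S.B R.P R.hBP (linFun (S.tilde θ))

theorem proj_eq {b u t : G} (hb : b ∈ S.B) (hu : u ∈ S.U) (ht : t ∈ S.T) (h : b = u * t) :
    S.proj ⟨b, hb⟩ = ⟨t, ht⟩ := by
  subst h
  exact S.proj_mul hu ht

/-- if `θ^n = θ` then `θ̃` is self-compatible at `n` (inside `P`) -/
theorem compat_alphaP (θ : ↥S.T →* ℂˣ) (htw : S.twist R.n R.hnT θ = θ) :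
    Compat (alphaP S R θ) (alphaP S R θ) (nP S R) := by
  intro h hh hk
  rw [alphaP_apply, alphaP_apply, S.tilde_apply, S.tilde_apply]
  have hb : ((h : ↥R.P) : G) ∈ S.B := Subgroup.mem_subgroupOf.mp hh
  have hk' : R.n⁻¹ * (h : G) * R.n ∈ S.B := by
    have := Subgroup.mem_subgroupOf.mp hk
    simpa [nP] using this
  obtain ⟨u, hu, t₀, ht₀, hut⟩ := S.hmul _ hb
  have ht₁ : R.n⁻¹ * t₀ * R.n ∈ S.T := R.hnT' t₀ ht₀
  have hu₁B : R.n⁻¹ * u * R.n ∈ S.B := by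
    have e : R.n⁻¹ * u * R.n = (R.n⁻¹ * (h : G) * R.n) * (R.n⁻¹ * t₀ * R.n)⁻¹ := by
      rw [hut]; group
    rw [e]
    exact S.B.mul_mem hk' (S.B.inv_mem (S.hTB ht₁))
  have hu₁ : R.n⁻¹ * u * R.n ∈ S.U := R.hpB u hu hu₁B
  have e1 : S.proj ⟨(h : G), hb⟩ = ⟨t₀, ht₀⟩ := proj_eq S hb hu ht₀ hut
  have e2 : S.proj ⟨R.n⁻¹ * (h : G) * R.n, hk'⟩ = ⟨R.n⁻¹ * t₀ * R.n, ht₁⟩ := by
    apply proj_eq S hk' hu₁ ht₁
    rw [hut]; group
  have e3 : (⟨(((nP S R)⁻¹ * h * nP S R : ↥R.P) : G), Subgroup.mem_subgroupOf.mp hk⟩ : ↥S.B) =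
      ⟨R.n⁻¹ * (h : G) * R.n, hk'⟩ := by
    apply Subtype.ext
    simp [nP]
  rw [e3, e1, e2]
  have h4 := congrArg (fun φ : ↥S.T →* ℂˣ => φ ⟨R.n⁻¹ * t₀ * R.n, ht₁⟩) htw
  simp only [S.twist_apply] at h4
  rw [← h4]
  congr 1
  apply Subtype.ext
  show t₀ = R.n * (R.n⁻¹ * t₀ * R.n) * R.n⁻¹
  group

end basics

open Classical in
/-- **[A-DAGGER]**, with the conclusions of [A-STAGE2], [A-PICK], [A-ORTH], [A-RANK1LIN] as hypotheses. -/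
theorem theta_eq_one_on_root_of [Fintype G] (S : BorelData G) (Ψ : Set (↥S.U →* ℂˣ))
    (R : RootDatum S Ψ) (χ : G → ℂ)
    (hstage2 : ∀ θ : ↥S.T →* ℂˣ,
      indFun S.B (linFun (S.tilde (S.twist R.n R.hnT θ))) = indFun S.B (linFun (S.tilde θ)))
    (hpick : ∀ Ψ₀ : ↥R.P → ℂ, IsCharacter ↥R.P Ψ₀ → classInner χ (indFun R.P Ψ₀) = 1 →
      ∃ Λ : ↥R.P → ℂ, IsIrrCharacter ↥R.P Λ ∧ classInner Λ Ψ₀ = 1 ∧
        classInner χ (indFun R.P Λ) = 1 ∧ IsCharacter ↥R.P (Ψ₀ - Λ))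
    (horth : ∀ Λ Λ₂ : ↥R.P → ℂ, IsCharacter ↥R.P Λ → IsCharacter ↥R.P Λ₂ →
      classInner χ (indFun R.P Λ) = 1 → ∀ ψ : ↥S.U →* ℂˣ,
      classInner χ (indFun S.U (linFun ψ)) = 1 → ∀ k : ℕ, k ≤ 1 →
      classInner (indFun R.P (Λ + Λ₂)) (indFun S.U (linFun ψ)) = (k : ℂ) → ∀ m : G,
      ∑ y : G, extendByZero R.P Λ₂ y * conj (extendByZero S.U (linFun ψ) (m * y * m⁻¹)) = 0)
    (hr1l : ∀ (B X : Subgroup ↥R.P) (n : ↥R.P) (hXB : X ≤ B), n ∉ B →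
      (∀ g : ↥R.P, g ∈ B ∨ ∃ b ∈ B, ∃ x ∈ X, g = b * n * x) →
      (∀ x ∈ X, ∀ y ∈ X, x * y = y * x) →
      ∀ α : ↥B →* ℂˣ, (∀ (x : ↥R.P) (hx : x ∈ X), α ⟨x, hXB hx⟩ = 1) → Compat α α n →
      ∀ Λ : ↥R.P → ℂ, IsIrrCharacter ↥R.P Λ → classInner Λ (indFun B (linFun α)) = 1 →
      (∀ ξ : ↥X →* ℂˣ, ξ ≠ 1 →
        ∑ x : ↥X, (indFun B (linFun α) (x : ↥R.P) - Λ (x : ↥R.P)) * conj (linFun ξ x) = 0) →
      ∃ μ : ↥R.P →* ℂˣ, ∀ b : ↥B, μ (b : ↥R.P) = α b)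
    (hgen : ∀ ψ ∈ Ψ, classInner χ (indFun S.U (linFun ψ)) = 1)
    (hle : ∀ ψ ∈ Ψ, ∀ θ : ↥S.T →* ℂˣ, ∃ k : ℕ, k ≤ 1 ∧
      classInner (indFun S.B (linFun (S.tilde θ))) (indFun S.U (linFun ψ)) = (k : ℂ))
    (θ : ↥S.T →* ℂˣ) (hθ : classInner χ (indFun S.B (linFun (S.tilde θ))) = 1)
    (hθ' : ∀ θ' : ↥S.T →* ℂˣ, θ' ≠ θ → classInner χ (indFun S.B (linFun (S.tilde θ'))) = 0)
    (t : G) (ht : t ∈ S.T)
    (htX : t ∈ R.X ⊔ R.X.map (MulAut.conj R.n).toMonoidHom) : θ ⟨t, ht⟩ = 1 := by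
  -- Step A: `θ^n = θ`
  have htw : S.twist R.n R.hnT θ = θ := by
    by_contra hne
    have h0 := hθ' _ hne
    rw [hstage2 θ, hθ] at h0
    exact one_ne_zero h0
  have hXP : R.X ≤ R.P := R.hXU.trans (S.hUB.trans R.hBP)
  set B' : Subgroup ↥R.P := S.B.subgroupOf R.P with hB'
  set X' : Subgroup ↥R.P := R.X.subgroupOf R.P with hX'
  set α := alphaP S R θ with hα
  have hc : Compat α α (nP S R) := compat_alphaP S R θ htw
  -- Step C: `Ψ₀`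
  set Ψ₀ : ↥R.P → ℂ := indFun B' (linFun α) with hΨ₀def
  have hΨ₀ : IsCharacter ↥R.P Ψ₀ :=
    Cfsg.Agent.S0148.result B' (linFun α)
      (Cfsg.Agent.Lib.Helper3.IsIrrCharacter.isCharacter
        (Cfsg.Agent.Lib.Helper79.BrauerN.isIrrCharacter_linFun α))
  have hind : indFun R.P Ψ₀ = indFun S.B (linFun (S.tilde θ)) := indFun_alphaP S R θ
  have h1 : classInner χ (indFun R.P Ψ₀) = 1 := by rw [hind]; exact hθ
  obtain ⟨Λ, hΛirr, hΛ1, hΛχ, hΛ₂⟩ := hpick Ψ₀ hΨ₀ h1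
  have hΛch : IsCharacter ↥R.P Λ := Cfsg.Agent.Lib.Helper3.IsIrrCharacter.isCharacter hΛirr
  have hcl₂ : IsClassFunction ↥R.P (Ψ₀ - Λ) :=
    Cfsg.Agent.Lib.Helper78.IsCharacter.isClassFunction hΛ₂
  have hXB' : X' ≤ B' := by
    intro x hx
    exact Subgroup.mem_subgroupOf.mpr (S.hUB (R.hXU (Subgroup.mem_subgroupOf.mp hx)))
  -- Step F: orthogonality on `X`
  have horth' : ∀ ξ : ↥X' →* ℂˣ, ξ ≠ 1 →
      ∑ x : ↥X', (indFun B' (linFun α) (x : ↥R.P) - Λ (x : ↥R.P)) * conj (linFun ξ x) = 0 := by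
    intro ξ hξ
    let e : ↥X' ≃* ↥R.X := Subgroup.subgroupOfEquivOfLe hXP
    set ξ₀ : ↥R.X →* ℂˣ := ξ.comp e.symm.toMonoidHom with hξ₀def
    have hξ₀ : ξ₀ ≠ 1 := by
      intro h
      apply hξ
      ext x
      have := congrArg (fun φ : ↥R.X →* ℂˣ => φ (e x)) h
      simpa [hξ₀def] using this
    obtain ⟨ψ, hψ, hψξ⟩ := R.hΨ ξ₀ hξ₀
    obtain ⟨k, hk, hkle⟩ := hle ψ hψ θ
    have hsum := horth Λ (Ψ₀ - Λ) hΛch hΛ₂ hΛχ ψ (hgen ψ hψ) k hk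
      (by rw [add_sub_cancel, hind]; exact hkle) R.m
    rw [← hsum]
    apply Fintype.sum_of_injective (fun x : ↥X' => R.n * ((x : ↥R.P) : G) * R.n⁻¹)
    · intro x y hxy
      have : ((x : ↥R.P) : G) = ((y : ↥R.P) : G) := by
        have h2 := congrArg (fun g => R.n⁻¹ * g * R.n) hxy
        simpa [mul_assoc] using h2
      exact Subtype.ext (Subtype.ext this)
    · intro y hy
      by_cases hyP : y ∈ R.P
      · by_cases hyU : R.m * y * R.m⁻¹ ∈ S.U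
        · exfalso
          obtain ⟨x, hx, hyx⟩ := R.hmP y hyP hyU
          apply hy
          exact ⟨⟨⟨x, hXP hx⟩, Subgroup.mem_subgroupOf.mpr hx⟩, hyx.symm⟩
        · rw [Cfsg.Agent.Lib.Helper75.extendByZero_of_not_mem _ _ hyU, map_zero, mul_zero]
      · rw [Cfsg.Agent.Lib.Helper75.extendByZero_of_not_mem _ _ hyP, zero_mul]
    · intro x
      have hxX : ((x : ↥R.P) : G) ∈ R.X := Subgroup.mem_subgroupOf.mp x.2
      have hnx : R.n * ((x : ↥R.P) : G) * R.n⁻¹ ∈ R.P :=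
        R.P.mul_mem (R.P.mul_mem R.hnP (x : ↥R.P).2) (R.P.inv_mem R.hnP)
      have hmx := R.hmX _ hxX
      rw [Cfsg.Agent.Lib.Helper75.extendByZero_of_mem _ _ hnx,
        Cfsg.Agent.Lib.Helper75.extendByZero_of_mem _ _ hmx]
      have e1 : (⟨R.n * ((x : ↥R.P) : G) * R.n⁻¹, hnx⟩ : ↥R.P) =
          nP S R * (x : ↥R.P) * (nP S R)⁻¹ := by
        apply Subtype.ext
        simp [nP]
      rw [e1, hcl₂ (x : ↥R.P) (nP S R)]
      have e2 : linFun ψ ⟨R.m * (R.n * ((x : ↥R.P) : G) * R.n⁻¹) * R.m⁻¹, hmx⟩ = linFun ξ x := by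
        unfold linFun
        rw [hψξ _ hxX]
        simp only [hξ₀def, MonoidHom.comp_apply]
        congr 3
      rw [e2]
      rfl
  -- Step G: the linear character `μ` of `P`
  have hnB' : nP S R ∉ B' := fun h => R.hnB (Subgroup.mem_subgroupOf.mp h)
  have hcov' : ∀ g : ↥R.P, g ∈ B' ∨ ∃ b ∈ B', ∃ x ∈ X', g = b * nP S R * x := by
    intro g
    rcases R.hcov g g.2 with h | ⟨b, hb, x, hx, hg⟩
    · exact Or.inl (Subgroup.mem_subgroupOf.mpr h)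
    · refine Or.inr ⟨⟨b, R.hBP hb⟩, Subgroup.mem_subgroupOf.mpr hb, ⟨x, hXP hx⟩,
        Subgroup.mem_subgroupOf.mpr hx, ?_⟩
      apply Subtype.ext
      simp [nP, hg]
  have hXcomm' : ∀ x ∈ X', ∀ y ∈ X', x * y = y * x := by
    intro x hx y hy
    apply Subtype.ext
    exact R.hXcomm _ (Subgroup.mem_subgroupOf.mp hx) _ (Subgroup.mem_subgroupOf.mp hy)
  have hαX : ∀ (x : ↥R.P) (hx : x ∈ X'), α ⟨x, hXB' hx⟩ = 1 := by
    intro x hx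
    rw [hα, alphaP_apply]
    exact S.tilde_of_mem_U θ (R.hXU (Subgroup.mem_subgroupOf.mp hx))
  obtain ⟨μ, hμ⟩ := hr1l B' X' (nP S R) hXB' hnB' hcov' hXcomm' α hαX hc Λ hΛirr hΛ1 horth'
  -- Step H: `μ` is trivial on `X` and on `n X n⁻¹`
  have hμX : ∀ x (hx : x ∈ R.X), μ ⟨x, hXP hx⟩ = 1 := by
    intro x hx
    have hx' : (⟨x, hXP hx⟩ : ↥R.P) ∈ X' := Subgroup.mem_subgroupOf.mpr hx
    have := hμ ⟨⟨x, hXP hx⟩, hXB' hx'⟩
    rw [hαX _ hx'] at this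
    exact this
  have hker : R.X ⊔ R.X.map (MulAut.conj R.n).toMonoidHom ≤ (μ.ker).map R.P.subtype := by
    apply sup_le
    · intro x hx
      exact ⟨⟨x, hXP hx⟩, MonoidHom.mem_ker.mpr (hμX x hx), rfl⟩
    · rintro y ⟨x, hx, rfl⟩
      refine ⟨nP S R * ⟨x, hXP hx⟩ * (nP S R)⁻¹, ?_, ?_⟩
      · rw [SetLike.mem_coe, MonoidHom.mem_ker, map_mul, map_mul, hμX x hx, mul_one, map_inv,
          mul_inv_cancel]
      · simp [nP]
  obtain ⟨z, hz, hzt⟩ := hker htX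
  have hz1 : μ z = 1 := MonoidHom.mem_ker.mp hz
  have htB : t ∈ S.B := S.hTB ht
  have hzB : z ∈ B' := by
    apply Subgroup.mem_subgroupOf.mpr
    have : (z : G) = t := hzt
    rw [this]; exact htB
  have h5 := hμ ⟨z, hzB⟩
  rw [hz1, hα, alphaP_apply] at h5
  have h6 : (⟨((⟨z, hzB⟩ : ↥B') : ↥R.P), Subgroup.mem_subgroupOf.mp hzB⟩ : ↥S.B) = ⟨t, htB⟩ := by
    apply Subtype.ext
    exact hzt
  rw [h6, S.tilde_of_mem_T θ ht] at h5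
  exact h5.symm

end Cfsg.Agent.Lib.Helper24.StUniq
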