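import Mathlib
import Cfsg.Agent.Lib.Helper24.StUniq.Dagger
import Cfsg.Agent.Lib.Helper93.StUniq.Pick
import Cfsg.Agent.Lib.Helper36.StUniq.Orth
import Cfsg.Agent.Lib.Helper73.StUniq.Rank1Lin

/-!
# S2318, module [A-DAGGER] (helper24): with [A-PICK], [A-ORTH], [A-RANK1LIN] plugged in

`theta_eq_one_on_root_of_stage2`: the sheet statement of [A-DAGGER] with only the conclusion of
[A-STAGE2] (`Ind_B^G (θ^n)~ = Ind_B^G θ~` for all `θ`) left as a hypothesis.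
-/

set_option autoImplicit false

namespace Cfsg.Agent.Lib.Helper24.StUniq

open Cfsg
open scoped ComplexConjugate
open Cfsg.Agent.Lib.Helper79.BrauerN (linFun)
open Cfsg.Agent.Lib.Helper82.SLDZ (Compat)
open Cfsg.Agent.Lib.Helper82.StUniq

universe u
variable {G : Type u} [Group G]

open Classical in
theorem theta_eq_one_on_root_of_stage2 [Fintype G] (S : BorelData G) (Ψ : Set (↥S.U →* ℂˣ))
    (R : RootDatum S Ψ) (χ : G → ℂ) (hχ : IsIrrCharacter G χ)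
    (hstage2 : ∀ θ : ↥S.T →* ℂˣ,
      indFun S.B (linFun (S.tilde (S.twist R.n R.hnT θ))) = indFun S.B (linFun (S.tilde θ)))
    (hgen : ∀ ψ ∈ Ψ, classInner χ (indFun S.U (linFun ψ)) = 1)
    (hle : ∀ ψ ∈ Ψ, ∀ θ : ↥S.T →* ℂˣ, ∃ k : ℕ, k ≤ 1 ∧
      classInner (indFun S.B (linFun (S.tilde θ))) (indFun S.U (linFun ψ)) = (k : ℂ))
    (θ : ↥S.T →* ℂˣ) (hθ : classInner χ (indFun S.B (linFun (S.tilde θ))) = 1)
    (hθ' : ∀ θ' : ↥S.T →* ℂˣ, θ' ≠ θ → classInner χ (indFun S.B (linFun (S.tilde θ'))) = 0)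
    (t : G) (ht : t ∈ S.T)
    (htX : t ∈ R.X ⊔ R.X.map (MulAut.conj R.n).toMonoidHom) : θ ⟨t, ht⟩ = 1 :=
  theta_eq_one_on_root_of S Ψ R χ hstage2
    (fun Ψ₀ hΨ₀ h1 => Cfsg.Agent.Lib.Helper93.StUniq.exists_irr_pick R.P Ψ₀ hΨ₀ χ hχ h1)
    (fun Λ Λ₂ hΛ hΛ₂ h1 ψ h2 k hk hle m =>
      Cfsg.Agent.Lib.Helper36.StUniq.sum_conj_eq_zero R.P S.U Λ Λ₂ hΛ hΛ₂ χ hχ h1 ψ h2 k hk hle m)
    (fun B X n hXB hnB hcov hXcomm α hαX hc Λ hΛ h1 horth =>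
      Cfsg.Agent.Lib.Helper73.StUniq.exists_linear_extension B X n hXB hnB hcov hXcomm α hαX hc
        Λ hΛ h1 horth)
    hgen hle θ hθ hθ' t ht htX

end Cfsg.Agent.Lib.Helper24.StUniq
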