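import Mathlib
import Cfsg.Agent.Lib.Helper24.StUniq.DaggerMid
import Cfsg.Agent.Lib.Helper6.StUniq.Stage2

/-!
# S2318, module [A-DAGGER] (helper24): final, sheet-exact statement

`theta_eq_one_on_root`: exactly the statement of `[A-DAGGER]` in
`Lib/Helper82/StUniq/STUNIQ_STUBS.lean.txt`, obtained from
`theta_eq_one_on_root_of_stage2` (DaggerMid) and helper6's `[A-STAGE2]`
(`Cfsg.Agent.Lib.Helper6.StUniq.indFun_tilde_twist`).
-/

set_option autoImplicit false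

namespace Cfsg.Agent.Lib.Helper24.StUniq

open Cfsg
open scoped ComplexConjugate
open Cfsg.Agent.Lib.Helper79.BrauerN (linFun)
open Cfsg.Agent.Lib.Helper82.SLDZ (Compat)
open Cfsg.Agent.Lib.Helper82.StUniq

universe u
variable {G : Type u} [Group G]

open Classical in
/-- `[A-DAGGER]` -/
theorem theta_eq_one_on_root [Fintype G] (S : BorelData G) (Ψ : Set (↥S.U →* ℂˣ))
    (R : RootDatum S Ψ) (χ : G → ℂ) (hχ : IsIrrCharacter G χ)
    (hgen : ∀ ψ ∈ Ψ, classInner χ (indFun S.U (linFun ψ)) = 1)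
    (hle : ∀ ψ ∈ Ψ, ∀ θ : ↥S.T →* ℂˣ, ∃ k : ℕ, k ≤ 1 ∧
      classInner (indFun S.B (linFun (S.tilde θ))) (indFun S.U (linFun ψ)) = (k : ℂ))
    (θ : ↥S.T →* ℂˣ) (hθ : classInner χ (indFun S.B (linFun (S.tilde θ))) = 1)
    (hθ' : ∀ θ' : ↥S.T →* ℂˣ, θ' ≠ θ → classInner χ (indFun S.B (linFun (S.tilde θ'))) = 0)
    (t : G) (ht : t ∈ S.T)
    (htX : t ∈ R.X ⊔ R.X.map (MulAut.conj R.n).toMonoidHom) : θ ⟨t, ht⟩ = 1 := by
  have hcov' : ∀ g ∈ R.P, g ∈ S.B ∨ ∃ b ∈ S.B, ∃ b' ∈ S.B, g = b * R.n * b' := by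
    intro g hg
    rcases R.hcov g hg with h | ⟨b, hb, x, hx, h⟩
    · exact Or.inl h
    · exact Or.inr ⟨b, hb, x, S.hUB (R.hXU hx), h⟩
  exact theta_eq_one_on_root_of_stage2 S Ψ R χ hχ
    (fun θ₀ => Cfsg.Agent.Lib.Helper6.StUniq.indFun_tilde_twist S R.P R.n R.hBP R.hnP hcov'
      R.hnT R.hnT' R.hpB θ₀) hgen hle θ hθ hθ' t ht htX

end Cfsg.Agent.Lib.Helper24.StUniq
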